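import Groth.Agent.Lib.PunctB6.Scheme
import Groth.Prelude.Def_FEt
import Mathlib.AlgebraicGeometry.Morphisms.Flat
import Mathlib.AlgebraicGeometry.Morphisms.Preimmersion
import Mathlib.AlgebraicGeometry.Morphisms.LocalIso
import Mathlib.RingTheory.Ideal.KrullsHeightTheorem

/-!
# Components of an exceptional fibre: codimension one or a closed generic point
-/

set_option autoImplicit false
set_option linter.style.haveILetI false

universe u

open CategoryTheory CategoryTheory.Limits AlgebraicGeometry TopologicalSpace IsLocalRing Topology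

namespace GrothLib.PurIsol6

theorem flat_fromSpecStalk {X : Scheme.{u}} (x : X) : Flat (X.fromSpecStalk x) := by
  obtain ⟨_, ⟨U, hU, rfl⟩, hxU, -⟩ :=
    X.isBasis_affineOpens.exists_subset_of_mem_open (Set.mem_univ x) isOpen_univ
  rw [← hU.fromSpecStalk_eq_fromSpecStalk hxU]
  letI : Algebra Γ(X, U) (X.presheaf.stalk x) := (X.presheaf.germ U x hxU).hom.toAlgebra
  haveI : IsLocalization.AtPrime (X.presheaf.stalk x) (hU.primeIdealOf ⟨x, hxU⟩).asIdeal :=
    hU.isLocalization_stalk ⟨x, hxU⟩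
  haveI : Flat (Spec.map (X.presheaf.germ U x hxU)) := by
    rw [HasRingHomProperty.Spec_iff (P := @Flat)]
    show RingHom.Flat (algebraMap Γ(X, U) (X.presheaf.stalk x))
    rw [RingHom.flat_algebraMap_iff]
    exact IsLocalization.flat _ (hU.primeIdealOf ⟨x, hxU⟩).asIdeal.primeCompl
  exact MorphismProperty.comp_mem @Flat (Spec.map (X.presheaf.germ U x hxU)) hU.fromSpec inferInstance inferInstance

theorem isIso_stalkMap {A B : Scheme.{u}} (e : A ⟶ B) [IsPreimmersion e] [Flat e] (a : A) :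
    IsIso (e.stalkMap a) := by
  rw [ConcreteCategory.isIso_iff_bijective]
  refine ⟨?_, e.stalkMap_surjective a⟩
  letI := (e.stalkMap a).hom.toAlgebra
  haveI : Module.Flat (B.presheaf.stalk (e a)) (A.presheaf.stalk a) := Flat.stalkMap e a
  haveI : IsLocalHom (algebraMap (B.presheaf.stalk (e a)) (A.presheaf.stalk a)) :=
    inferInstanceAs (IsLocalHom (e.stalkMap a).hom)
  haveI : Module.FaithfullyFlat (B.presheaf.stalk (e a)) (A.presheaf.stalk a) :=
    Module.FaithfullyFlat.of_flat_of_isLocalHom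
  exact FaithfulSMul.algebraMap_injective (B.presheaf.stalk (e a)) (A.presheaf.stalk a)

/-- In a Noetherian local domain with a prime strictly between `0` and the maximal ideal `m`, some prime avoids
both a given nonzero ideal and that prime. -/
theorem exists_prime_avoid_domain {D : Type u} [CommRing D] [IsDomain D] [IsNoetherianRing D] [IsLocalRing D]
    (pz : Ideal D) [hpz : pz.IsPrime] (h0 : pz ≠ ⊥) (hm : pz ≠ maximalIdeal D) (J : Ideal D) (hJ : J ≠ ⊥) :
    ∃ r : Ideal D, r.IsPrime ∧ ¬ J ≤ r ∧ ¬ r ≤ pz := by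
  classical
  let m := maximalIdeal D
  have hlt : pz < m := lt_of_le_of_ne (le_maximalIdeal hpz.ne_top) hm
  let S : Set (Ideal D) := insert pz {q ∈ J.minimalPrimes | q ≠ m}
  have hSfin : S.Finite := ((J.finite_minimalPrimes_of_isNoetherianRing D).subset fun q hq => hq.1).insert pz
  have hSp : ∀ q ∈ S, q.IsPrime ∧ q ≠ m := by
    rintro q (rfl | hq)
    · exact ⟨hpz, hm⟩
    · exact ⟨hq.1.1.1, hq.2⟩
  obtain ⟨a, ham, haS⟩ : ∃ a ∈ m, ∀ q ∈ S, a ∉ q := by
    by_contra hcon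
    push_neg at hcon
    obtain ⟨q, hq, hmq⟩ := (Ideal.subset_union_prime_finite hSfin (f := id) (I := m) ⊥ ⊥
      fun q hq _ _ => (hSp q hq).1).1 fun a ha => by
        obtain ⟨q, hq, haq⟩ := hcon a ha
        exact Set.mem_iUnion₂.2 ⟨q, hq, haq⟩
    exact (hSp q hq).2 (le_antisymm (le_maximalIdeal (hSp q hq).1.ne_top) hmq)
  obtain ⟨r, hr, hrm⟩ := Ideal.exists_minimalPrimes_le (I := Ideal.span {a}) (J := m)
    ((Ideal.span_singleton_le_iff_mem _).2 ham)
  haveI := hr.1.1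
  have har : a ∈ r := hr.1.2 (Ideal.mem_span_singleton_self a)
  have hh : r.height ≤ 1 := by
    haveI : (Ideal.span {a}).IsPrincipal := ⟨⟨a, rfl⟩⟩
    exact Ideal.height_le_one_of_isPrincipal_of_mem_minimalPrimes _ r hr
  -- no prime lies strictly between `⊥` and `r`
  have hbetween : ∀ q : Ideal D, q.IsPrime → q ≠ ⊥ → q < r → False := by
    intro q hq hq0 hqr
    haveI := hq
    have h1 := Ideal.height_strict_mono_of_isPrime_of_isPrime (bot_lt_iff_ne_bot.2 hq0)
    have h2 := Ideal.height_strict_mono_of_isPrime_of_isPrime hqr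
    exact absurd (h2.trans_le hh) (not_lt.2 (Order.one_le_iff_pos.2 (pos_of_gt h1)))
  have hrne : r ≠ m := fun h => hbetween pz hpz h0 (h ▸ hlt)
  refine ⟨r, inferInstance, fun hJr => ?_, fun hrp => haS pz (Set.mem_insert _ _) (hrp har)⟩
  obtain ⟨q, hq, hqr⟩ := Ideal.exists_minimalPrimes_le hJr
  have hqm : q ≠ m := fun h => hrne (le_antisymm hrm (h ▸ hqr))
  refine hbetween q hq.1.1 (fun h => hJ (le_bot_iff.1 (h ▸ hq.1.2))) (lt_of_le_of_ne hqr fun h => ?_)
  exact haS q (Set.mem_insert_of_mem _ ⟨hq, hqm⟩) (h ▸ har)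

/-- A point of `X` off a closed set `F`, below `η` and not above `z`, as soon as `z` has a proper specialization. -/
theorem exists_point_avoid {X : Scheme.{u}} [IsLocallyNoetherian X] {η z z' : X} (hηz : η ⤳ z) (hzz' : z ⤳ z')
    (hne : z' ≠ z) (F : Set X) (hF : IsClosed F) (hη : η ∉ F) (hz : z ∈ F) :
    ∃ x : X, x ⤳ z' ∧ η ⤳ x ∧ x ∉ F ∧ ¬ x ⤳ z := by
  let R := X.presheaf.stalk z'
  let c := X.fromSpecStalk z'
  have hc : IsInducing c := c.isEmbedding.isInducing
  obtain ⟨ph, hph⟩ : η ∈ Set.range c := by rw [Scheme.range_fromSpecStalk]; exact hηz.trans hzz'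
  obtain ⟨qz, hqz⟩ : z ∈ Set.range c := by rw [Scheme.range_fromSpecStalk]; exact hzz'
  have hle : ph.asIdeal ≤ qz.asIdeal :=
    (PrimeSpectrum.le_iff_specializes ph qz).2 (hc.specializes_iff.1 (by rw [hph, hqz]; exact hηz))
  obtain ⟨J, hJ⟩ := (PrimeSpectrum.isClosed_iff_zeroLocus_ideal (R := R) _).1 (hF.preimage c.continuous)
  let D := R ⧸ ph.asIdeal
  haveI : IsDomain D := Ideal.Quotient.isDomain ph.asIdeal
  haveI : IsLocalRing D := IsLocalRing.of_surjective' (Ideal.Quotient.mk ph.asIdeal) Ideal.Quotient.mk_surjective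
  haveI : IsNoetherianRing D := inferInstanceAs (IsNoetherianRing (R ⧸ ph.asIdeal))
  let π := Ideal.Quotient.mk ph.asIdeal
  have hker : RingHom.ker π ≤ qz.asIdeal := by rw [Ideal.mk_ker]; exact hle
  haveI : (qz.asIdeal.map π).IsPrime :=
    Ideal.map_isPrime_of_surjective Ideal.Quotient.mk_surjective hker
  have hcomap : (qz.asIdeal.map π).comap π = qz.asIdeal := by
    rw [Ideal.comap_map_of_surjective π Ideal.Quotient.mk_surjective, sup_eq_left]
    exact hker
  have hphF : ph ∉ c ⁻¹' F := by rw [Set.mem_preimage, hph]; exact hη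
  obtain ⟨r, hr, hJr, hrz⟩ := exists_prime_avoid_domain (qz.asIdeal.map π)
    (fun h0 => by
      have : qz = ph := PrimeSpectrum.ext (le_antisymm (by
        rw [← hcomap, h0]
        exact (RingHom.ker_eq_comap_bot π).symm.trans (Ideal.mk_ker) |>.le) hle)
      exact hphF (this ▸ (show c qz ∈ F from hqz.symm ▸ hz)))
    (fun hm => by
      have : qz = closedPoint R := PrimeSpectrum.ext (by
        rw [← hcomap, hm]
        exact IsLocalRing.eq_maximalIdeal (Ideal.comap_isMaximal_of_surjective π Ideal.Quotient.mk_surjective))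
      exact hne (by rw [← hqz, this, Scheme.fromSpecStalk_closedPoint]))
    (J.map π) (fun h0 => hphF (by
      rw [hJ]
      show (J : Set R) ⊆ ph.asIdeal
      exact (Ideal.mk_ker (I := ph.asIdeal)) ▸ (Ideal.map_eq_bot_iff_le_ker π).1 h0))
  haveI := hr
  let rr : Spec R := ⟨r.comap π, inferInstance⟩
  refine ⟨c rr, ?_, ?_, fun hmem => hJr ?_, fun hs => hrz ?_⟩
  · have : c rr ∈ Set.range c := ⟨rr, rfl⟩
    rwa [Scheme.range_fromSpecStalk] at this
  · rw [← hph]
    refine ((PrimeSpectrum.le_iff_specializes ph rr).1 ?_).map c.continuous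
    show ph.asIdeal ≤ r.comap π
    exact (Ideal.mk_ker (I := ph.asIdeal)).ge.trans (Ideal.comap_mono bot_le)
  · rw [Ideal.map_le_iff_le_comap]
    have h1 : rr ∈ PrimeSpectrum.zeroLocus (J : Set R) := hJ.le hmem
    exact h1
  · have h1 : rr.asIdeal ≤ qz.asIdeal :=
      (PrimeSpectrum.le_iff_specializes rr qz).2 (hc.specializes_iff.1 (by rw [hqz]; exact hs))
    rw [← Ideal.map_comap_of_surjective π Ideal.Quotient.mk_surjective r]
    exact Ideal.map_mono h1

theorem dim_le_one_or_closed_gen {X Y : Scheme.{u}}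
    [IsLocallyNoetherian X] (g : X ⟶ Y) (y : ↥Y) (Y' : Y.Opens)
    (hY' : (Y' : Set ↥Y) = {y}ᶜ) [IsOpenImmersion (g ∣_ Y')]
    (A : CommRingCat.{u}) [IsLocalRing A] [IsNoetherianRing A] (j : Spec A ⟶ Y) [IsPreimmersion j]
    (hjc : j (closedPoint A) = y) (hjr : Set.range j = {a | a ⤳ y})
    (hjd : ∀ w : X, g w = y → ∃ d : Spec (X.presheaf.stalk w) ⟶ Spec A, d ≫ j = X.fromSpecStalk w ≫ g)
    (hW : (∀ U : (Spec A).Opens, ∀ hU : U ≤ FEt.puncturedSpec ↑A,
        (∀ T ∈ irreducibleComponents ↥(FEt.puncturedSpec ↑A), ¬ Subtype.val '' T ⊆ (U : Set _)) →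
        IsAffineHom ((Spec A).homOfLE hU) → IsAffineOpen U))
    (z : ↥X) (hz : g z = y) (hmax : ∀ z' : ↥X, g z' = y → z' ⤳ z → z' = z) :
    ringKrullDim ↑(X.presheaf.stalk z) ≤ 1 ∨ ∀ z' : ↥X, g z' = y → z ⤳ z' → z' = z := by
  refine or_iff_not_imp_right.2 fun hnot => ?_
  push_neg at hnot
  obtain ⟨z', hz'y, hzz', hne⟩ := hnot
  have hymem : ∀ a : Y, a ∈ Y' ↔ a ≠ y := fun a => by
    rw [← SetLike.mem_coe, hY']; rfl
  have hinj : ∀ a b : X, g a ≠ y → g a = g b → a = b := by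
    intro a b ha hab
    have ha' : a ∈ g ⁻¹ᵁ Y' := (hymem _).2 ha
    have hb' : b ∈ g ⁻¹ᵁ Y' := (hymem _).2 (hab ▸ ha)
    have : (g ∣_ Y') ⟨a, ha'⟩ = (g ∣_ Y') ⟨b, hb'⟩ := Y'.ι.isEmbedding.injective (by
      rw [← Scheme.Hom.comp_apply, ← Scheme.Hom.comp_apply, morphismRestrict_ι, Scheme.Hom.comp_apply,
        Scheme.Hom.comp_apply]
      exact hab)
    exact congrArg Subtype.val ((g ∣_ Y').isOpenEmbedding.injective this)
  let P' := FEt.puncturedSpec ↑A
  have hjne : ∀ p : Spec A, p ∈ P' ↔ j p ≠ y := by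
    intro p
    show p ≠ closedPoint A ↔ _
    refine not_congr ⟨fun h => h ▸ hjc, fun h => ?_⟩
    exact j.isEmbedding.injective (h.trans hjc.symm)
  -- in every component, a point avoided by a small neighbourhood of `z`
  have havoid : ∀ T ∈ irreducibleComponents ↥P', ∃ (p : ↥P') (O : X.Opens), p ∈ T ∧ z ∈ O ∧
      ∀ x ∈ O, g x ≠ j p.1 := by
    intro T hT
    haveI : QuasiSober ↥P' := P'.isOpenEmbedding'.quasiSober
    obtain ⟨η, hη⟩ := QuasiSober.sober hT.1 (isClosed_of_mem_irreducibleComponents T hT)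
    by_cases hex : ∃ x, g x = j η.1
    · obtain ⟨x, hx⟩ := hex
      have hxy : g x ≠ y := hx ▸ (hjne _).1 η.2
      have huniq : ∀ a, g a = j η.1 → a = x := fun a ha => (hinj x a hxy (hx.trans ha.symm)).symm
      by_cases hxz : x ⤳ z
      · obtain ⟨x', hx'z', hxx', hx'F, hx'z⟩ := exists_point_avoid hxz hzz' hne (g ⁻¹' {y})
          (by
            have : IsClosed ({y} : Set Y) := by
              rw [← compl_compl ({y} : Set Y), ← hY']; exact Y'.isOpen.isClosed_compl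
            exact this.preimage g.continuous) hxy hz
        obtain ⟨p, hp⟩ : g x' ∈ Set.range j := by
          rw [hjr]
          exact hz'y ▸ hx'z'.map g.continuous
        let p' : ↥P' := ⟨p, (hjne p).2 (hp ▸ hx'F)⟩
        refine ⟨p', ⟨(closure {x'})ᶜ, isClosed_closure.isOpen_compl⟩, ?_, ?_, ?_⟩
        · have hsp : η ⤳ p' := by
            refine IsInducing.subtypeVal.specializes_iff.1 (j.isEmbedding.isInducing.specializes_iff.1 ?_)
            rw [hp, ← hx]
            exact hxx'.map g.continuous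
          rw [← hη.def]
          exact hsp.mem_closure
        · exact fun h => hx'z (specializes_iff_mem_closure.2 h)
        · intro a ha hga
          have : a = x' := (hinj x' a hx'F (by rw [hga, hp])).symm
          exact ha (this ▸ subset_closure rfl)
      · refine ⟨η, ⟨(closure {x})ᶜ, isClosed_closure.isOpen_compl⟩, hη.mem, ?_, ?_⟩
        · exact fun h => hxz (specializes_iff_mem_closure.2 h)
        · intro a ha hga
          exact ha (huniq a hga ▸ subset_closure rfl)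
    · push_neg at hex
      exact ⟨η, ⊤, hη.mem, trivial, fun a _ => hex a⟩
  choose pT OT hpT hzT hOT using havoid
  have hfinT : (irreducibleComponents ↥P').Finite := by
    haveI : NoetherianSpace ↥P' := IsInducing.subtypeVal.noetherianSpace
    exact NoetherianSpace.finite_irreducibleComponents
  have hOmem : (⋂ (T) (hT : T ∈ irreducibleComponents ↥P'), (OT T hT : Set X)) ∈ nhds z := by
    haveI := hfinT.to_subtype
    rw [← Set.iInter_subtype _ (fun T : irreducibleComponents ↥P' => (OT T.1 T.2 : Set X))]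
    exact Filter.iInter_mem.2 fun T => (OT T.1 T.2).isOpen.mem_nhds (hzT T.1 T.2)
  obtain ⟨_, ⟨(Y₀ : Y.Opens), hY₀, rfl⟩, hyY₀, -⟩ := Y.isBasis_affineOpens.exists_subset_of_mem_open
    (Set.mem_univ y) isOpen_univ
  obtain ⟨_, ⟨(V : X.Opens), hV, rfl⟩, hzV, hVsub⟩ := X.isBasis_affineOpens.exists_subset_of_mem_open
    (show z ∈ interior (⋂ (T) (hT : T ∈ irreducibleComponents ↥P'), (OT T hT : Set X)) ∩ g ⁻¹' (Y₀ : Set Y) from
      ⟨mem_interior_iff_mem_nhds.2 hOmem, show g z ∈ Y₀ by rw [hz]; exact hyY₀⟩)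
    (isOpen_interior.inter (Y₀.isOpen.preimage g.continuous))
  have e : V ≤ g ⁻¹ᵁ Y₀ := fun a ha => (hVsub ha).2
  haveI : IsAffine (V : Scheme.{u}) := hV
  haveI : IsAffine (Y₀ : Scheme.{u}) := hY₀
  let gV := g.resLE Y₀ V e
  have hgV : gV ≫ Y₀.ι = V.ι ≫ g := Scheme.Hom.resLE_comp_ι g e
  let Y₀' : (Y₀ : Scheme.{u}).Opens := Y₀.ι ⁻¹ᵁ Y'
  haveI : IsAffineHom gV := isAffineHom_of_isAffine gV
  haveI : IsAffineHom (gV ∣_ Y₀') := IsZariskiLocalAtTarget.restrict ‹_› Y₀'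
  haveI hoi : IsOpenImmersion (gV ∣_ Y₀') := by
    let k := (gV ⁻¹ᵁ Y₀').ι ≫ V.ι
    let l := IsOpenImmersion.lift (g ⁻¹ᵁ Y').ι k (by
      rw [Scheme.Opens.range_ι]
      rintro _ ⟨a, rfl⟩
      show g (k a) ∈ Y'
      have h1 : g (k a) = Y₀.ι (gV ((gV ⁻¹ᵁ Y₀').ι a)) := by
        simp only [k, Scheme.Hom.comp_apply]
        rw [← Scheme.Hom.comp_apply, ← hgV, Scheme.Hom.comp_apply]
      rw [h1]
      exact a.2)
    haveI : IsOpenImmersion (l ≫ (g ⁻¹ᵁ Y').ι) := by rw [IsOpenImmersion.lift_fac]; infer_instance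
    haveI : IsOpenImmersion l := IsOpenImmersion.of_comp l (g ⁻¹ᵁ Y').ι
    have : IsOpenImmersion ((gV ∣_ Y₀') ≫ (Y₀'.ι ≫ Y₀.ι)) := by
      rw [morphismRestrict_ι_assoc, hgV,
        show (gV ⁻¹ᵁ Y₀').ι ≫ V.ι ≫ g = l ≫ ((g ∣_ Y') ≫ Y'.ι) by
          rw [morphismRestrict_ι, ← Category.assoc l, IsOpenImmersion.lift_fac, Category.assoc]]
      infer_instance
    exact IsOpenImmersion.of_comp (gV ∣_ Y₀') (Y₀'.ι ≫ Y₀.ι)
  let j₀ : Spec A ⟶ Y₀ := IsOpenImmersion.lift Y₀.ι j (by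
    rw [hjr, Scheme.Opens.range_ι]
    exact fun a (ha : a ⤳ y) => ha.mem_open Y₀.isOpen hyY₀)
  have hj₀ : j₀ ≫ Y₀.ι = j := IsOpenImmersion.lift_fac _ _ _
  haveI : IsPreimmersion j₀ := by
    haveI : IsPreimmersion (j₀ ≫ Y₀.ι) := by rw [hj₀]; infer_instance
    exact IsPreimmersion.of_comp j₀ Y₀.ι
  let P := pullback gV j₀
  let a := pullback.fst gV j₀
  let b := pullback.snd gV j₀
  let U' : (Spec A).Opens := j₀ ⁻¹ᵁ Y₀'
  have hU'P : U' = P' := by
    ext p
    show Y₀.ι (j₀ p) ∈ Y' ↔ p ∈ P'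
    rw [← Scheme.Hom.comp_apply, hj₀, hymem, hjne]
  have hres : IsPullback ((b ⁻¹ᵁ U').ι ≫ a) (b ∣_ U') gV (U'.ι ≫ j₀) :=
    (isPullback_morphismRestrict b U').flip.paste_horiz (IsPullback.of_hasPullback gV j₀)
  have hU'j : (j₀ ∣_ Y₀') ≫ Y₀'.ι = U'.ι ≫ j₀ := morphismRestrict_ι j₀ Y₀'
  let a' : ((b ⁻¹ᵁ U' : P.Opens) : Scheme.{u}) ⟶ (gV ⁻¹ᵁ Y₀' : (V : Scheme.{u}).Opens) :=
    IsOpenImmersion.lift (gV ⁻¹ᵁ Y₀').ι ((b ⁻¹ᵁ U').ι ≫ a) (by
      rw [Scheme.Opens.range_ι]
      rintro _ ⟨q, rfl⟩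
      show gV (((b ⁻¹ᵁ U').ι ≫ a) q) ∈ Y₀'
      rw [← Scheme.Hom.comp_apply, hres.w, Scheme.Hom.comp_apply, Scheme.Hom.comp_apply]
      exact ((b ∣_ U') q).2)
  have ha' : a' ≫ (gV ⁻¹ᵁ Y₀').ι = (b ⁻¹ᵁ U').ι ≫ a := IsOpenImmersion.lift_fac _ _ _
  have hbase : IsPullback a' (b ∣_ U') (gV ∣_ Y₀') (j₀ ∣_ Y₀') := by
    refine IsPullback.of_right ?_ ?_ (isPullback_morphismRestrict gV Y₀').flip
    · rw [ha', hU'j]
      exact hres
    · rw [← cancel_mono Y₀'.ι, Category.assoc, Category.assoc, hU'j, morphismRestrict_ι, ← Category.assoc a', ha']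
      exact hres.w
  haveI : IsOpenImmersion (b ∣_ U') := MorphismProperty.of_isPullback hbase hoi
  haveI : IsAffineHom (b ∣_ U') := MorphismProperty.of_isPullback hbase (inferInstance : IsAffineHom (gV ∣_ Y₀'))
  let U : (Spec A).Opens := ((b ∣_ U') ≫ U'.ι).opensRange
  have hUmem : ∀ p, p ∈ U → ∃ q : ↥(b ⁻¹ᵁ U'), b q.1 = p := by
    rintro p ⟨q, rfl⟩
    refine ⟨q, ?_⟩
    rw [morphismRestrict_ι]
    rfl
  have hU : U ≤ P' := by
    rw [← hU'P]
    intro p hp
    obtain ⟨q, rfl⟩ := hUmem p hp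
    exact q.2
  have hno : ∀ T ∈ irreducibleComponents ↥P', ¬ Subtype.val '' T ⊆ (U : Set ↥(Spec A)) := by
    intro T hT hsub
    obtain ⟨q, hq⟩ := hUmem _ (hsub ⟨pT T hT, hpT T hT, rfl⟩)
    refine hOT T hT (V.ι (a q.1)) ?_ ?_
    · have := interior_subset (hVsub (a q.1).2).1
      exact Set.mem_iInter₂.1 this T hT
    · rw [← Scheme.Hom.comp_apply, ← hgV, Scheme.Hom.comp_apply, ← Scheme.Hom.comp_apply a, pullback.condition,
        Scheme.Hom.comp_apply]
      show Y₀.ι (j₀ (b q.1)) = j (pT T hT).1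
      rw [hq, ← Scheme.Hom.comp_apply, hj₀]
  let eU := ((b ∣_ U') ≫ U'.ι).isoOpensRange
  have haffhom : IsAffineHom ((Spec A).homOfLE hU) := by
    have key : ∀ (Q : (Spec A).Opens), Q = U' → ∀ hQ : U ≤ Q, IsAffineHom ((Spec A).homOfLE hQ) := by
      intro Q hQ hle
      subst hQ
      have : (Spec A).homOfLE hle = eU.inv ≫ (b ∣_ U') := by
        rw [← cancel_mono U'.ι, Scheme.homOfLE_ι, Category.assoc, Scheme.Hom.isoOpensRange_inv_comp]
      rw [this]
      infer_instance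
    exact key P' hU'P.symm hU
  haveI : IsAffine (U : Scheme.{u}) := hW U hU hno haffhom
  haveI : IsAffine ((b ⁻¹ᵁ U' : P.Opens) : Scheme.{u}) := IsAffine.of_isIso eU.hom
  haveI : IsAffine P := IsAffine.of_isIso (pullback.congrHom rfl rfl : P ≅ pullback gV j₀).hom
  haveI : IsAffineHom (b ⁻¹ᵁ U').ι := isAffineHom_of_isAffine _
  let zV : (V : Scheme.{u}) := ⟨z, hzV⟩
  let R := X.presheaf.stalk z
  let cz := X.fromSpecStalk z
  let cV : Spec R ⟶ V := IsOpenImmersion.lift V.ι cz (by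
    rw [Scheme.range_fromSpecStalk, Scheme.Opens.range_ι]
    exact fun x (hx : x ⤳ z) => hx.mem_open V.isOpen hzV)
  have hcV : cV ≫ V.ι = cz := IsOpenImmersion.lift_fac _ _ _
  obtain ⟨d, hdj⟩ := hjd z hz
  subst hz
  have hd : cV ≫ gV = d ≫ j₀ := by
    rw [← cancel_mono Y₀.ι, Category.assoc, Category.assoc, hgV, hj₀, reassoc_of% hcV]
    exact hdj.symm
  let c : Spec R ⟶ P := pullback.lift cV d hd
  haveI : IsAffineHom (c ⁻¹ᵁ (b ⁻¹ᵁ U')).ι :=
    MorphismProperty.of_isPullback (P := @IsAffineHom) (isPullback_morphismRestrict c (b ⁻¹ᵁ U')) inferInstance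
  have hmemU : ∀ q : Spec R, q ∈ c ⁻¹ᵁ (b ⁻¹ᵁ U') ↔ g (cz q) ≠ g z := fun q => by
    show b (c q) ∈ U' ↔ _
    rw [hU'P, hjne, ← Scheme.Hom.comp_apply c b, pullback.lift_snd, ← Scheme.Hom.comp_apply d j,
      ← Scheme.Hom.comp_apply cz g]
    rw [show d ≫ j = cz ≫ g from hdj]
  haveI : IsNoetherianRing R := inferInstance
  have hdim := PunctB6.ringKrullDim_stalk_le_one (c ⁻¹ᵁ (b ⁻¹ᵁ U')) (closedPoint R)
    (fun hmem => (hmemU _).1 hmem (by rw [Scheme.fromSpecStalk_closedPoint]))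
    (fun η hη _ => by
      have h1 : g (cz η) = g z := not_not.1 fun h => hη ((hmemU η).2 h)
      have h2 : cz η ⤳ z := by
        have : cz η ∈ Set.range cz := ⟨η, rfl⟩
        rwa [Scheme.range_fromSpecStalk] at this
      exact cz.isEmbedding.injective ((hmax _ h1 h2).trans (Scheme.fromSpecStalk_closedPoint (x := z)).symm))
  haveI : Flat cz := flat_fromSpecStalk z
  haveI : IsIso (cz.stalkMap (closedPoint R)) := isIso_stalkMap cz _
  have e1 := ringKrullDim_eq_of_ringEquiv (asIso (cz.stalkMap (closedPoint R))).commRingCatIsoToRingEquiv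
  rw [Scheme.fromSpecStalk_closedPoint] at e1
  exact e1.le.trans hdim

theorem dim_le_one_or_closed {X Y : Scheme.{u}}
    [IsLocallyNoetherian X] [IsLocallyNoetherian Y] (g : X ⟶ Y) (y : ↥Y) (Y' : Y.Opens)
    (hY' : (Y' : Set ↥Y) = {y}ᶜ) [IsOpenImmersion (g ∣_ Y')]
    (hW : (∀ U : (Spec (Y.presheaf.stalk y)).Opens, ∀ hU : U ≤ FEt.puncturedSpec ↑(Y.presheaf.stalk y),
        (∀ T ∈ irreducibleComponents ↥(FEt.puncturedSpec ↑(Y.presheaf.stalk y)), ¬ Subtype.val '' T ⊆ (U : Set _)) →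
        IsAffineHom ((Spec (Y.presheaf.stalk y)).homOfLE hU) → IsAffineOpen U))
    (z : ↥X) (hz : g z = y) (hmax : ∀ z' : ↥X, g z' = y → z' ⤳ z → z' = z) :
    ringKrullDim ↑(X.presheaf.stalk z) ≤ 1 ∨ ∀ z' : ↥X, g z' = y → z ⤳ z' → z' = z :=
  dim_le_one_or_closed_gen g y Y' hY' (Y.presheaf.stalk y) (Y.fromSpecStalk y) Scheme.fromSpecStalk_closedPoint
    Scheme.range_fromSpecStalk
    (fun w hw => by subst hw; exact ⟨_, Scheme.SpecMap_stalkMap_fromSpecStalk g⟩) hW z hz hmax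

theorem isOpenImmersion_of_isLocalIso {X Y : Scheme.{u}} [IrreducibleSpace ↥X] (f : X ⟶ Y) [IsLocalIso f]
    [IsSeparated f] : IsOpenImmersion f := by
  have hst : ∀ x, IsIso (f.stalkMap x) := by
    intro x
    obtain ⟨U, hxU, hU⟩ := IsLocalIso.exists_isOpenImmersion (f := f) x
    have h1 : IsIso ((U.ι ≫ f).stalkMap ⟨x, hxU⟩) := inferInstance
    rw [Scheme.Hom.stalkMap_comp] at h1
    exact @IsIso.of_isIso_comp_right _ _ _ _ _ (f.stalkMap (U.ι ⟨x, hxU⟩)) (U.ι.stalkMap ⟨x, hxU⟩) inferInstance h1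
  haveI : SurjectiveOnStalks f := ⟨fun x => by
    haveI := hst x
    exact (ConcreteCategory.bijective_of_isIso (f.stalkMap x)).2⟩
  have hopen : ∀ {A B : Scheme.{u}} (k : A ⟶ B) [IsLocalIso k], IsOpenMap k := by
    intro A B k _ O hO
    rw [isOpen_iff_forall_mem_open]
    rintro _ ⟨a, ha, rfl⟩
    obtain ⟨U, haU, hU⟩ := IsLocalIso.exists_isOpenImmersion (f := k) a
    refine ⟨(U.ι ≫ k) '' (U.ι ⁻¹' O), ?_, (U.ι ≫ k).isOpenEmbedding.isOpenMap _ (hO.preimage U.ι.continuous),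
      ⟨⟨a, haU⟩, ha, rfl⟩⟩
    rintro _ ⟨b, hb, rfl⟩
    exact ⟨U.ι b, hb, (Scheme.Hom.comp_apply _ _ _).symm⟩
  have hinj : Function.Injective f := by
    intro x₁ x₂ h
    obtain ⟨p, hp₁, hp₂⟩ := Scheme.Pullback.exists_preimage_pullback (f := f) (g := f) x₁ x₂ h
    let η := genericPoint ↥X
    let δ := pullback.diagonal f
    haveI : IsLocalIso (pullback.fst f f) := MorphismProperty.pullback_fst f f inferInstance
    have hclosed : IsClosed (Set.range δ) := δ.isClosedEmbedding.isClosed_range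
    have hmem : p ∈ closure (Set.range δ) := by
      rw [mem_closure_iff]
      intro O hO hpO
      obtain ⟨q, hqO, hq⟩ : η ∈ pullback.fst f f '' O :=
        ((genericPoint_spec ↥X).mem_open_set_iff (hopen (pullback.fst f f) O hO)).2 ⟨_, trivial, p, hpO, rfl⟩
      have hw : f (pullback.snd f f q) = f η := by
        rw [← hq, ← Scheme.Hom.comp_apply, ← Scheme.Hom.comp_apply, pullback.condition]
      obtain ⟨U, hwU, hU⟩ := IsLocalIso.exists_isOpenImmersion (f := f) (pullback.snd f f q)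
      have hηU : η ∈ U := (genericPoint_specializes _).mem_open U.isOpen hwU
      have hqη : pullback.snd f f q = η :=
        congrArg Subtype.val ((U.ι ≫ f).isOpenEmbedding.injective (a₁ := ⟨_, hwU⟩) (a₂ := ⟨η, hηU⟩)
          (by rw [Scheme.Hom.comp_apply, Scheme.Hom.comp_apply]; exact hw))
      refine ⟨q, hqO, η, ?_⟩
      apply (SurjectiveOnStalks.isEmbedding_pullback f f).injective
      show (pullback.fst f f (δ η), pullback.snd f f (δ η)) = (pullback.fst f f q, pullback.snd f f q)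
      rw [hq, hqη, ← Scheme.Hom.comp_apply, ← Scheme.Hom.comp_apply, pullback.diagonal_fst, pullback.diagonal_snd]
      rfl
    obtain ⟨x, hx⟩ := hclosed.closure_eq.le hmem
    rw [← hp₁, ← hp₂, ← hx, ← Scheme.Hom.comp_apply, ← Scheme.Hom.comp_apply, pullback.diagonal_fst,
      pullback.diagonal_snd]
  haveI := hst
  exact IsOpenImmersion.of_isIso_stalkMap f
    (Topology.IsOpenEmbedding.of_continuous_injective_isOpenMap f.continuous hinj (hopen f))

end GrothLib.PurIsol6
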