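import Groth.Agent.Lib.PurIsol6.Main
import Mathlib.AlgebraicGeometry.Morphisms.QuasiFinite

/-!
# Components of the non-local-isomorphism locus: codimension one or isolated in their fibre
-/

set_option autoImplicit false
set_option linter.style.haveILetI false

universe u

open CategoryTheory CategoryTheory.Limits AlgebraicGeometry TopologicalSpace IsLocalRing Topology

namespace GrothLib.PurIsol6

theorem isOpen_singleton_of_isolated {F : Scheme.{u}} [IsLocallyNoetherian F] (p : F)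
    (hgen : ∀ w : F, w ⤳ p → w = p) (hspec : ∀ w : F, p ⤳ w → w = p) : IsOpen ({p} : Set F) := by
  obtain ⟨_, ⟨(U : F.Opens), hU, rfl⟩, hpU, -⟩ := F.isBasis_affineOpens.exists_subset_of_mem_open
    (Set.mem_univ p) isOpen_univ
  haveI : IsAffine (U : Scheme.{u}) := hU
  haveI : IsNoetherian (U : Scheme.{u}) := {}
  let pU : (U : Scheme.{u}) := ⟨p, hpU⟩
  obtain ⟨S, hSfin, hSc, hSi, hS⟩ := NoetherianSpace.exists_finite_set_isClosed_irreducible
    (isClosed_univ (X := ↥(U : Scheme.{u})))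
  let B := ⋃₀ {Z ∈ S | pU ∉ Z}
  have hB : IsClosed B := by
    rw [show B = ⋃ Z ∈ {Z ∈ S | pU ∉ Z}, Z from Set.sUnion_eq_biUnion]
    exact (hSfin.subset fun Z hZ => hZ.1).isClosed_biUnion fun Z hZ => hSc Z hZ.1
  have hone : Bᶜ = ({pU} : Set ↥(U : Scheme.{u})) := by
    refine Set.Subset.antisymm (fun w hw => ?_) fun w hw => ?_
    · obtain ⟨Z, hZ, hwZ⟩ : ∃ Z ∈ S, w ∈ Z := Set.mem_sUnion.1 (hS ▸ Set.mem_univ w)
      have hpZ : pU ∈ Z := by
        by_contra h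
        exact hw ⟨Z, ⟨hZ, h⟩, hwZ⟩
      obtain ⟨ξ, hξ⟩ := QuasiSober.sober (hSi Z hZ) (hSc Z hZ)
      have hξp : ξ = pU := U.ι.isEmbedding.injective (hgen _ ((hξ.specializes hpZ).map U.ι.continuous))
      subst hξp
      exact U.ι.isEmbedding.injective (hspec _ ((hξ.specializes hwZ).map U.ι.continuous))
    · rw [Set.mem_singleton_iff] at hw
      subst hw
      rintro ⟨Z, ⟨-, hpZ⟩, h⟩
      exact hpZ h
  have h := U.ι.isOpenEmbedding.isOpenMap _ (hone ▸ hB.isOpen_compl)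
  rwa [Set.image_singleton] at h

theorem dim_le_one_or_isolated {X Y : Scheme.{u}}
    [IsLocallyNoetherian X] [IsLocallyNoetherian Y] [IrreducibleSpace ↥X] (g : X ⟶ Y) [LocallyOfFiniteType g]
    (hW : ∀ y : ↥Y, (∀ U : (Spec (Y.presheaf.stalk y)).Opens, ∀ hU : U ≤ FEt.puncturedSpec ↑(Y.presheaf.stalk y),
        (∀ T ∈ irreducibleComponents ↥(FEt.puncturedSpec ↑(Y.presheaf.stalk y)), ¬ Subtype.val '' T ⊆ (U : Set _)) →
        IsAffineHom ((Spec (Y.presheaf.stalk y)).homOfLE hU) → IsAffineOpen U))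
    (z : ↥X) (hz : ¬ ∃ W : X.Opens, z ∈ W ∧ IsLocalIso (W.ι ≫ g))
    (hmax : ∀ z' : ↥X, (¬ ∃ W : X.Opens, z' ∈ W ∧ IsLocalIso (W.ι ≫ g)) → z' ⤳ z → z' = z) :
    ringKrullDim ↑(X.presheaf.stalk z) ≤ 1 ∨
      ∃ O : X.Opens, z ∈ O ∧ ∀ z' : ↥X, z' ∈ O → g z' = g z → z' = z := by
  let Vs : Set X := {x | ∃ U : X.Opens, x ∈ U ∧ IsOpenImmersion (U.ι ≫ g)}
  have hVs : ∀ x, (∃ W : X.Opens, x ∈ W ∧ IsLocalIso (W.ι ≫ g)) ↔ x ∈ Vs := by
    refine fun x => ⟨?_, ?_⟩
    · rintro ⟨W, hxW, hW'⟩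
      obtain ⟨U₁, hxU₁, hU₁⟩ := IsLocalIso.exists_isOpenImmersion (f := W.ι ≫ g) ⟨x, hxW⟩
      refine ⟨W.ι ''ᵁ U₁, ⟨⟨x, hxW⟩, hxU₁, rfl⟩, ?_⟩
      rw [← Scheme.Hom.isoImage_inv_ι W.ι U₁, Category.assoc, Category.assoc,
        MorphismProperty.cancel_left_of_respectsIso @IsOpenImmersion]
      exact hU₁
    · rintro ⟨U, hxU, hU⟩
      exact ⟨U, hxU, ⟨fun a => ⟨⊤, trivial, inferInstance⟩⟩⟩
  have hVopen : IsOpen Vs := isOpen_iff_forall_mem_open.2 fun x ⟨U, hxU, hU⟩ =>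
    ⟨U, fun a ha => ⟨U, ha, hU⟩, U.isOpen, hxU⟩
  let V : X.Opens := ⟨Vs, hVopen⟩
  have hzV : z ∉ V := fun h => hz ((hVs z).2 h)
  have hmaxV : ∀ w, w ∉ V → w ⤳ z → w = z := fun w hw => hmax w fun h => hw ((hVs w).1 h)
  let y := g z
  -- no generization of `z` in its fibre
  have hgen : ∀ w, g w = y → w ⤳ z → w = z := by
    intro w hw hwz
    by_contra hne
    have hwV : w ∈ V := by_contra fun h => hne (hmaxV w h hwz)
    obtain ⟨U, hwU, hU⟩ := hwV
    have hqf : g.QuasiFiniteAt w := by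
      rw [Scheme.Hom.quasiFiniteAt_iff_isOpen_singleton_asFiber]
      have hset : ({g.asFiber w} : Set ↑(g.fiber (g w))) = g.fiberι (g w) ⁻¹' (U : Set X) := by
        ext b
        refine ⟨fun hb => ?_, fun hb => ?_⟩
        · rw [Set.mem_singleton_iff.1 hb]
          show g.fiberι (g w) (g.asFiber w) ∈ U
          rw [Scheme.Hom.fiberι_asFiber]
          exact hwU
        · refine (g.fiberι (g w)).isEmbedding.injective ?_
          rw [Scheme.Hom.fiberι_asFiber]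
          have hgb : g (g.fiberι (g w) b) = g w := (g.range_fiberι (g w)).le ⟨b, rfl⟩
          exact congrArg Subtype.val ((U.ι ≫ g).isOpenEmbedding.injective (a₁ := ⟨_, hb⟩) (a₂ := ⟨w, hwU⟩)
            (by rw [Scheme.Hom.comp_apply, Scheme.Hom.comp_apply]; exact hgb))
      rw [hset]
      exact U.isOpen.preimage (g.fiberι (g w)).continuous
    obtain ⟨b, hb⟩ := (g.range_fiberι (g w)).ge (show g z = g w from hw.symm)
    have hsp : g.asFiber w ⤳ b := (g.fiberι (g w)).isEmbedding.isInducing.specializes_iff.1 (by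
      rw [Scheme.Hom.fiberι_asFiber, hb]; exact hwz)
    have h1 : b = g.asFiber w := hsp.mem_closed hqf.isClopen_singleton_asFiber.1 rfl
    exact hne (by rw [← hb, h1, Scheme.Hom.fiberι_asFiber])
  let F := g.fiber y
  haveI : LocallyOfFiniteType (g.fiberToSpecResidueField y) := MorphismProperty.pullback_snd g _ inferInstance
  haveI : IsLocallyNoetherian F := LocallyOfFiniteType.isLocallyNoetherian (g.fiberToSpecResidueField y)
  haveI : JacobsonSpace ↥F := LocallyOfFiniteType.jacobsonSpace (g.fiberToSpecResidueField y)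
  let zF := g.asFiber z
  have hzF : g.fiberι y zF = z := g.fiberι_asFiber z
  by_cases hclosed : ∀ w, g w = y → z ⤳ w → w = z
  · right
    have hopen : IsOpen ({zF} : Set ↥F) := by
      refine isOpen_singleton_of_isolated zF (fun b hb => ?_) (fun b hb => ?_)
      · refine (g.fiberι y).isEmbedding.injective ((hgen _ ((g.range_fiberι y).le ⟨b, rfl⟩) ?_).trans hzF.symm)
        exact hzF ▸ hb.map (g.fiberι y).continuous
      · refine (g.fiberι y).isEmbedding.injective ((hclosed _ ((g.range_fiberι y).le ⟨b, rfl⟩) ?_).trans hzF.symm)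
        exact hzF ▸ hb.map (g.fiberι y).continuous
    obtain ⟨O, hO, hOz⟩ := (g.fiberι y).isEmbedding.isInducing.isOpen_iff.1 hopen
    refine ⟨⟨O, hO⟩, ?_, fun z' hz' hgz' => ?_⟩
    · have := hOz.ge (rfl : zF = zF)
      rwa [Set.mem_preimage, hzF] at this
    · obtain ⟨b, hb⟩ := (g.range_fiberι y).ge hgz'
      have : b ∈ ({zF} : Set ↥F) := hOz.le (show g.fiberι y b ∈ O by rw [hb]; exact hz')
      rw [← hb, Set.mem_singleton_iff.1 this, hzF]
  left
  push_neg at hclosed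
  obtain ⟨z₀, hz₀y, hzz₀, hz₀ne⟩ := hclosed
  -- a neighbourhood where the bad locus is the closure of `z`
  obtain ⟨_, ⟨(W₀ : X.Opens), hW₀, rfl⟩, hzW₀, -⟩ := X.isBasis_affineOpens.exists_subset_of_mem_open
    (Set.mem_univ z) isOpen_univ
  haveI : IsAffine (W₀ : Scheme.{u}) := hW₀
  haveI : IsNoetherian (W₀ : Scheme.{u}) := {}
  obtain ⟨S, hSfin, hSc, hSi, hS⟩ := NoetherianSpace.exists_finite_set_isClosed_irreducible
    ((hVopen.isClosed_compl).preimage W₀.ι.continuous)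
  let zW₀ : (W₀ : Scheme.{u}) := ⟨z, hzW₀⟩
  let B := ⋃ Z ∈ {Z ∈ S | zW₀ ∉ Z}, Z
  have hB : IsClosed B := (hSfin.subset fun Z hZ => hZ.1).isClosed_biUnion fun Z hZ => hSc Z hZ.1
  let O : X.Opens := W₀.ι ''ᵁ ⟨Bᶜ, hB.isOpen_compl⟩
  have hzO : z ∈ O := ⟨zW₀, fun h => by obtain ⟨Z, hZ, hh⟩ := Set.mem_iUnion₂.1 h; exact hZ.2 hh, rfl⟩
  have hOT : ∀ x ∈ O, x ∉ V → z ⤳ x := by
    rintro _ ⟨w, hw, rfl⟩ hwV
    obtain ⟨Z, hZ, hwZ⟩ := Set.mem_sUnion.1 (hS.le (show W₀.ι w ∈ Vsᶜ from hwV))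
    have hzZ : zW₀ ∈ Z := by
      by_contra h
      exact hw (Set.mem_iUnion₂.2 ⟨Z, ⟨hZ, h⟩, hwZ⟩)
    obtain ⟨ξ, hξ⟩ := QuasiSober.sober (hSi Z hZ) (hSc Z hZ)
    have hξV : W₀.ι ξ ∉ V := hS.ge (Set.mem_sUnion.2 ⟨Z, hZ, hξ.mem⟩)
    have hξz : W₀.ι ξ = z := hmaxV _ hξV ((hξ.specializes hzZ).map W₀.ι.continuous)
    exact hξz ▸ (hξ.specializes hwZ).map W₀.ι.continuous
  -- a closed point of the fibre in that neighbourhood, different from `z`
  obtain ⟨p, hp, hpc⟩ : ((g.fiberι y ⁻¹' (O : Set X) ∩ closure {zF}) ∩ closedPoints ↥F).Nonempty :=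
    nonempty_inter_closedPoints ⟨zF, show g.fiberι y zF ∈ O by rw [hzF]; exact hzO, subset_closure rfl⟩
      ((O.isOpen.preimage (g.fiberι y).continuous).isLocallyClosed.inter isClosed_closure.isLocallyClosed)
  let z' := g.fiberι y p
  have hz'y : g z' = y := (g.range_fiberι y).le ⟨p, rfl⟩
  have hzz' : z ⤳ z' := hzF ▸ (specializes_iff_mem_closure.2 hp.2).map (g.fiberι y).continuous
  have hne : z' ≠ z := fun h => by
    have hpz : p = zF := (g.fiberι y).isEmbedding.injective (h.trans hzF.symm)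
    subst hpz
    obtain ⟨b, hb⟩ := (g.range_fiberι y).ge hz₀y
    have hsp : g.asFiber z ⤳ b := (g.fiberι y).isEmbedding.isInducing.specializes_iff.1 (by
      rw [hb]; exact hzF.symm ▸ hzz₀)
    have h1 : b = g.asFiber z := hsp.mem_closed hpc rfl
    exact hz₀ne (by rw [← hb, h1]; exact hzF)
  obtain ⟨_, ⟨(Y₀ : Y.Opens), hY₀, rfl⟩, hyY₀, -⟩ := Y.isBasis_affineOpens.exists_subset_of_mem_open
    (Set.mem_univ y) isOpen_univ
  obtain ⟨_, ⟨(W : X.Opens), hWaff, rfl⟩, hz'W, hWsub⟩ := X.isBasis_affineOpens.exists_subset_of_mem_open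
    (show z' ∈ (O : Set X) ∩ g ⁻¹' (Y₀ : Set Y) from ⟨hp.1, show g z' ∈ Y₀ by rw [hz'y]; exact hyY₀⟩)
    (O.isOpen.inter (Y₀.isOpen.preimage g.continuous))
  have hzW : z ∈ W := hzz'.mem_open W.isOpen hz'W
  haveI : IsAffine (W : Scheme.{u}) := hWaff
  haveI : IsAffine (Y₀ : Scheme.{u}) := hY₀
  let gW := W.ι ≫ g
  haveI : IsSeparated gW := by
    show IsSeparated (W.ι ≫ g)
    rw [← Scheme.Hom.resLE_comp_ι g (show W ≤ g ⁻¹ᵁ Y₀ from fun a ha => (hWsub ha).2)]
    infer_instance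
  let VW : (W : Scheme.{u}).Opens := W.ι ⁻¹ᵁ V
  haveI hoiV : IsOpenImmersion (VW.ι ≫ gW) := by
    rcases isEmpty_or_nonempty ↥(VW : Scheme.{u}) with he | hne'
    · infer_instance
    haveI : IrreducibleSpace ↥(VW : Scheme.{u}) := by
      let k := VW.ι ≫ W.ι
      haveI : PreirreducibleSpace ↥(VW : Scheme.{u}) := by
        refine ⟨?_⟩
        have h := (PreirreducibleSpace.isPreirreducible_univ (X := ↥X)).preimage k.isOpenEmbedding
        rwa [Set.preimage_univ] at h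
      exact ⟨hne'⟩
    haveI : IsLocalIso (VW.ι ≫ gW) := ⟨fun a => by
      obtain ⟨U, haU, hU⟩ := (a.2 : W.ι a.1 ∈ V)
      let k := VW.ι ≫ W.ι
      refine ⟨k ⁻¹ᵁ U, haU, ?_⟩
      have : (k ⁻¹ᵁ U).ι ≫ VW.ι ≫ gW = (k ∣_ U) ≫ U.ι ≫ g := by
        rw [morphismRestrict_ι_assoc]
        simp only [k, gW, Category.assoc]
      rw [this]
      infer_instance⟩
    exact isOpenImmersion_of_isLocalIso _
  -- localise at `y`
  let A := Y.presheaf.stalk y
  let j := Y.fromSpecStalk y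
  haveI : Flat j := flat_fromSpecStalk y
  let X₁ := pullback gW j
  let a := pullback.fst gW j
  let g₁ := pullback.snd gW j
  haveI : IsPreimmersion a := inferInstance
  haveI : Flat a := MorphismProperty.pullback_fst gW j inferInstance
  haveI : LocallyOfFiniteType g₁ := MorphismProperty.pullback_snd gW j inferInstance
  haveI : IsLocallyNoetherian X₁ := LocallyOfFiniteType.isLocallyNoetherian g₁
  let P' := FEt.puncturedSpec ↑A
  have hjc : j (closedPoint A) = y := Scheme.fromSpecStalk_closedPoint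
  have hpt : ∀ q : X₁, g (W.ι (a q)) = j (g₁ q) := fun q => by
    rw [← Scheme.Hom.comp_apply W.ι g, ← Scheme.Hom.comp_apply a, pullback.condition, Scheme.Hom.comp_apply]
  have hle : g₁ ⁻¹ᵁ P' ≤ a ⁻¹ᵁ VW := by
    intro q hq
    show W.ι (a q) ∈ V
    by_contra h
    have hx : W.ι (a q) ∈ (W : Set X) := (a q).2
    have h1 : y ⤳ j (g₁ q) := by
      rw [← hpt]
      exact (hOT _ (hWsub hx).1 h).map g.continuous
    have h2 : j (g₁ q) ⤳ y := by
      have : j (g₁ q) ∈ Set.range j := ⟨_, rfl⟩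
      rwa [Scheme.range_fromSpecStalk] at this
    exact (show g₁ q ≠ closedPoint A from hq)
      (j.isEmbedding.injective ((h2.antisymm h1).eq.trans hjc.symm))
  haveI hbase : IsOpenImmersion ((a ⁻¹ᵁ VW).ι ≫ g₁) :=
    MorphismProperty.of_isPullback
      ((isPullback_morphismRestrict a VW).paste_vert (IsPullback.of_hasPullback gW j)) hoiV
  haveI : IsOpenImmersion (g₁ ∣_ P') := by
    have : IsOpenImmersion ((g₁ ∣_ P') ≫ P'.ι) := by
      rw [morphismRestrict_ι, ← Scheme.homOfLE_ι X₁ hle, Category.assoc]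
      infer_instance
    exact IsOpenImmersion.of_comp (g₁ ∣_ P') P'.ι
  obtain ⟨z₁, hz₁a, hz₁b⟩ := Scheme.Pullback.exists_preimage_pullback (f := gW) (g := j) ⟨z, hzW⟩ (closedPoint A)
    (by rw [hjc]; rfl)
  obtain ⟨z₂, hz₂a, hz₂b⟩ := Scheme.Pullback.exists_preimage_pullback (f := gW) (g := j) ⟨z', hz'W⟩ (closedPoint A)
    (by rw [hjc]; exact hz'y)
  have hsp : z₁ ⤳ z₂ := by
    refine a.isEmbedding.isInducing.specializes_iff.1 ?_
    rw [hz₁a, hz₂a]
    exact W.ι.isEmbedding.isInducing.specializes_iff.1 hzz'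
  have hmax₁ : ∀ q : X₁, g₁ q = closedPoint A → q ⤳ z₁ → q = z₁ := by
    intro q hq hqz
    refine a.isEmbedding.injective (W.ι.isEmbedding.injective ?_)
    rw [hz₁a]
    refine hgen _ (by rw [hpt, hq, hjc]) ?_
    have := (hqz.map a.continuous).map W.ι.continuous
    rwa [hz₁a] at this
  have hrange : Set.range (𝟙 (Spec A) : Spec A ⟶ Spec A) = {q : Spec A | q ⤳ closedPoint A} :=
    Set.eq_of_subset_of_subset (fun q _ => IsLocalRing.specializes_closedPoint q) fun q _ => ⟨q, rfl⟩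
  rcases dim_le_one_or_closed_gen g₁ (closedPoint A) P' rfl A (𝟙 _) rfl hrange
    (fun w _ => ⟨_, Category.comp_id _⟩) (hW y) z₁ hz₁b hmax₁ with h | h
  · haveI : IsIso (a.stalkMap z₁) := isIso_stalkMap a z₁
    have e1 := ringKrullDim_eq_of_ringEquiv (asIso (a.stalkMap z₁)).commRingCatIsoToRingEquiv
    rw [hz₁a] at e1
    have e2 := ringKrullDim_eq_of_ringEquiv (asIso (W.ι.stalkMap ⟨z, hzW⟩)).commRingCatIsoToRingEquiv
    exact (e2.trans e1).le.trans h
  · exfalso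
    have := h z₂ hz₂b hsp
    rw [this, hz₁a] at hz₂a
    exact hne (congrArg Subtype.val hz₂a).symm

end GrothLib.PurIsol6
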